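import Mathlib.Algebra.Homology.HomotopyCategory.Pretriangulated
import Mathlib.Algebra.Homology.HomologicalComplexBiprod
import Mathlib.Algebra.Homology.Embedding.CochainComplex

/-! Termwise split factorizations of morphisms of cochain complexes through homotopy equivalences. -/

set_option autoImplicit false
set_option linter.style.haveILetI false

universe v u

open CategoryTheory CategoryTheory.Limits CochainComplex CochainComplex.HomComplex

namespace Groth.CohDerCyl

variable {V : Type u} [Category.{v} V] [Preadditive V] [HasBinaryBiproducts V]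

lemma isZero_biprod {A B : V} (hA : IsZero A) (hB : IsZero B) : IsZero (A ⊞ B) := by
  rw [IsZero.iff_id_eq_zero]
  ext
  all_goals first | exact hA.eq_of_src _ _ | exact hB.eq_of_src _ _

theorem exists_split_injective [HasZeroObject V] (K L : CochainComplex V ℤ) (α : K ⟶ L) :
    ∃ (L' : CochainComplex V ℤ) (α' : K ⟶ L') (π : L' ⟶ L) (s : L ⟶ L'),
      α' ≫ π = α ∧ s ≫ π = 𝟙 L ∧ Nonempty (Homotopy (π ≫ s) (𝟙 L')) ∧
      (∀ n : ℤ, ∃ (C : V) (e : L'.X n ≅ K.X n ⊞ C), α'.f n ≫ e.hom = biprod.inl) ∧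
      (∀ a : ℤ, K.IsStrictlyGE a → L.IsStrictlyGE a → ∃ a' : ℤ, L'.IsStrictlyGE a') ∧
      (∀ a : ℤ, K.IsStrictlyLE a → L.IsStrictlyLE a → ∃ a' : ℤ, L'.IsStrictlyLE a') := by
  let M := mappingCone (𝟙 K)
  let L' := L ⊞ M
  let α' : K ⟶ L' := biprod.lift α (mappingCone.inr (𝟙 K))
  let e : ∀ n, L'.X n ≅ K.X n ⊞ (L.X n ⊞ K.X (n + 1)) := fun n =>
    { hom := biprod.lift ((biprod.snd : L' ⟶ M).f n ≫ (mappingCone.snd (𝟙 K)).v n n (add_zero n))
        (biprod.lift ((biprod.fst : L' ⟶ L).f n -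
            (biprod.snd : L' ⟶ M).f n ≫ (mappingCone.snd (𝟙 K)).v n n (add_zero n) ≫ α.f n)
          ((biprod.snd : L' ⟶ M).f n ≫ (mappingCone.fst (𝟙 K)).1.v n (n + 1) rfl))
      inv := biprod.desc (α'.f n) (biprod.desc ((biprod.inl : L ⟶ L').f n)
        ((mappingCone.inl (𝟙 K)).v (n + 1) n (by omega) ≫ (biprod.inr : M ⟶ L').f n))
      hom_inv_id := by
        have hid := HomologicalComplex.congr_hom (biprod.total : (biprod.fst ≫ biprod.inl + biprod.snd ≫ biprod.inr : L' ⟶ L') = 𝟙 _) n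
        have hα : α'.f n = α.f n ≫ (biprod.inl : L ⟶ L').f n +
            (mappingCone.inr (𝟙 K)).f n ≫ (biprod.inr : M ⟶ L').f n := by
          have := HomologicalComplex.congr_hom (biprod.lift_eq (f := α) (g := mappingCone.inr (𝟙 K))) n
          simpa using this
        have hM := mappingCone.id_X (𝟙 K) n (n + 1) rfl
        simp only [biprod.lift_desc, hα, Preadditive.comp_add, Category.assoc, Preadditive.sub_comp]
        simp only [HomologicalComplex.add_f_apply, HomologicalComplex.comp_f, HomologicalComplex.id_f] at hid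
        rw [← hid]
        conv_rhs => rw [← Category.id_comp ((biprod.inr : M ⟶ L').f n), ← hM]
        simp only [Preadditive.comp_add, Preadditive.add_comp, Category.assoc]
        abel
      inv_hom_id := by
        have hα : α'.f n = α.f n ≫ (biprod.inl : L ⟶ L').f n +
            (mappingCone.inr (𝟙 K)).f n ≫ (biprod.inr : M ⟶ L').f n := by
          have := HomologicalComplex.congr_hom (biprod.lift_eq (f := α) (g := mappingCone.inr (𝟙 K))) n
          simpa using this
        apply biprod.hom_ext' <;> apply biprod.hom_ext <;>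
          [skip; apply biprod.hom_ext; apply biprod.hom_ext'; (apply biprod.hom_ext' <;> apply biprod.hom_ext)]
        all_goals simp [hα] }
  refine ⟨L', α', biprod.fst, biprod.inl, by simp [α'], biprod.inl_fst, ?_, fun n => ⟨_, e n, ?_⟩,
    fun a _ _ => ⟨a - 1, ?_⟩, fun a _ _ => ⟨a, ?_⟩⟩
  · have h1 : Homotopy ((biprod.snd : L' ⟶ M) ≫ 𝟙 M ≫ (biprod.inr : M ⟶ L')) 0 :=
      (((mappingCone.homotopyToZeroOfId K).compRight biprod.inr).compLeft biprod.snd).trans
        (Homotopy.ofEq (by simp))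
    exact ⟨((Homotopy.ofEq (by simp)).trans
      ((h1.symm.add (Homotopy.refl ((biprod.fst : L' ⟶ L) ≫ biprod.inl))))).trans
        (Homotopy.ofEq (by rw [Category.id_comp, add_comm, biprod.total]))⟩
  · rw [← Iso.eq_comp_inv]
    exact (biprod.inl_desc _ _).symm
  · rw [isStrictlyGE_iff]
    intro i hi
    exact IsZero.of_iso (isZero_biprod (K.isZero_of_isStrictlyGE a i (by omega))
      (isZero_biprod (L.isZero_of_isStrictlyGE a i (by omega)) (K.isZero_of_isStrictlyGE a (i + 1) (by omega)))) (e i)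
  · rw [isStrictlyLE_iff]
    intro i hi
    exact IsZero.of_iso (isZero_biprod (K.isZero_of_isStrictlyLE a i (by omega))
      (isZero_biprod (L.isZero_of_isStrictlyLE a i (by omega)) (K.isZero_of_isStrictlyLE a (i + 1) (by omega)))) (e i)

theorem exists_split_surjective [HasZeroObject V] (K L : CochainComplex V ℤ) (α : K ⟶ L) :
    ∃ (K' : CochainComplex V ℤ) (i : K ⟶ K') (α' : K' ⟶ L) (s : K' ⟶ K),
      i ≫ α' = α ∧ i ≫ s = 𝟙 K ∧ Nonempty (Homotopy (s ≫ i) (𝟙 K')) ∧
      (∀ n : ℤ, ∃ (C : V) (e : K'.X n ≅ C ⊞ L.X n), e.inv ≫ α'.f n = biprod.snd) ∧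
      (∀ a : ℤ, K.IsStrictlyGE a → L.IsStrictlyGE a → ∃ a' : ℤ, K'.IsStrictlyGE a') ∧
      (∀ a : ℤ, K.IsStrictlyLE a → L.IsStrictlyLE a → ∃ a' : ℤ, K'.IsStrictlyLE a') := by
  let S : CochainComplex V ℤ := (CategoryTheory.shiftFunctor (CochainComplex V ℤ) (-1 : ℤ)).obj L
  let M := mappingCone (𝟙 S)
  let q : M ⟶ L := (mappingCone.triangle (𝟙 S)).mor₃ ≫
    (shiftFunctorCompIsoId (CochainComplex V ℤ) (-1 : ℤ) 1 (by omega)).hom.app L
  let K' := K ⊞ M
  let α' : K' ⟶ L := biprod.desc α q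
  have h0 : ∀ n, (mappingCone.inr (𝟙 S)).f n ≫ q.f n = 0 := fun n => by
    rw [HomologicalComplex.comp_f, mappingCone.inr_f_triangle_mor₃_f_assoc, zero_comp]
  have hu : ∀ n, IsIso ((mappingCone.inl (𝟙 S)).v (n + 1) n (by omega) ≫ q.f n) := fun n => by
    rw [HomologicalComplex.comp_f, mappingCone.inl_v_triangle_mor₃_f_assoc]
    refine @IsIso.comp_isIso _ _ _ _ _ _ _ ?_
      (HomologicalComplex.Hom.isoApp ((shiftFunctorCompIsoId (CochainComplex V ℤ) (-1 : ℤ) 1 (by omega)).app L) n).isIso_hom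
    exact ⟨-(S.shiftFunctorObjXIso 1 n (n + 1) rfl).hom, (Preadditive.neg_comp_neg _ _).trans (Iso.inv_hom_id _),
      (Preadditive.neg_comp_neg _ _).trans (Iso.hom_inv_id _)⟩
  let t : ∀ n, L.X n ⟶ M.X n := fun n =>
    inv ((mappingCone.inl (𝟙 S)).v (n + 1) n (show n + 1 + (-1) = n by omega) ≫ q.f n) ≫ (mappingCone.inl (𝟙 S)).v (n + 1) n (show n + 1 + (-1) = n by omega)
  have hα : ∀ n, α'.f n = (biprod.fst : K' ⟶ K).f n ≫ α.f n + (biprod.snd : K' ⟶ M).f n ≫ q.f n :=
    fun n => by
      have := HomologicalComplex.congr_hom (biprod.desc_eq (f := α) (g := q)) n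
      simpa using this
  let e : ∀ n, K'.X n ≅ (K.X n ⊞ S.X n) ⊞ L.X n := fun n =>
    { hom := biprod.lift (biprod.lift ((biprod.fst : K' ⟶ K).f n)
          ((biprod.snd : K' ⟶ M).f n ≫ (mappingCone.snd (𝟙 S)).v n n (add_zero n))) (α'.f n)
      inv := biprod.desc (biprod.desc ((biprod.inl : K ⟶ K').f n - α.f n ≫ t n ≫ (biprod.inr : M ⟶ K').f n)
          ((mappingCone.inr (𝟙 S)).f n ≫ (biprod.inr : M ⟶ K').f n)) (t n ≫ (biprod.inr : M ⟶ K').f n)
      hom_inv_id := by
        have hid := HomologicalComplex.congr_hom (biprod.total : (biprod.fst ≫ biprod.inl + biprod.snd ≫ biprod.inr : K' ⟶ K') = 𝟙 _) n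
        have hM := mappingCone.id_X (𝟙 S) n (n + 1) rfl
        have hqt : q.f n ≫ t n =
            (mappingCone.fst (𝟙 S)).1.v n (n + 1) rfl ≫ (mappingCone.inl (𝟙 S)).v (n + 1) n (by omega) := by
          have h1 := congrArg (fun z => z ≫ q.f n) hM
          simp only [Preadditive.add_comp, Category.assoc, h0, comp_zero, add_zero, Category.id_comp] at h1
          rw [← h1]
          simp [t]
        simp only [biprod.lift_desc, hα, Preadditive.add_comp, Category.assoc, Preadditive.comp_sub]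
        simp only [HomologicalComplex.add_f_apply, HomologicalComplex.comp_f, HomologicalComplex.id_f] at hid
        rw [← hid, reassoc_of% hqt]
        conv_rhs => rw [← Category.id_comp ((biprod.inr : M ⟶ K').f n), ← hM]
        simp only [Preadditive.comp_add, Preadditive.add_comp, Category.assoc]
        abel
      inv_hom_id := by
        apply biprod.hom_ext' <;> apply biprod.hom_ext <;>
          [(apply biprod.hom_ext' <;> apply biprod.hom_ext); apply biprod.hom_ext'; apply biprod.hom_ext; skip]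
        all_goals simp [hα, t, h0] }
  refine ⟨K', biprod.inl, α', biprod.fst, by simp [α'], biprod.inl_fst, ?_, fun n => ⟨_, e n, ?_⟩,
    fun a _ _ => ⟨a, ?_⟩, fun a _ _ => ⟨a + 1, ?_⟩⟩
  · have h1 : Homotopy ((biprod.snd : K' ⟶ M) ≫ 𝟙 M ≫ (biprod.inr : M ⟶ K')) 0 :=
      (((mappingCone.homotopyToZeroOfId S).compRight biprod.inr).compLeft biprod.snd).trans
        (Homotopy.ofEq (by simp))
    exact ⟨((Homotopy.ofEq (by simp)).trans
      ((h1.symm.add (Homotopy.refl ((biprod.fst : K' ⟶ K) ≫ biprod.inl))))).trans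
        (Homotopy.ofEq (by rw [Category.id_comp, add_comm, biprod.total]))⟩
  · rw [Iso.inv_comp_eq]
    exact (biprod.lift_snd _ _).symm
  · rw [isStrictlyGE_iff]
    intro i hi
    exact IsZero.of_iso (isZero_biprod (isZero_biprod (K.isZero_of_isStrictlyGE a i (by omega))
      (show IsZero (S.X i) from L.isZero_of_isStrictlyGE a (i + (-1)) (by omega))) (L.isZero_of_isStrictlyGE a i (by omega))) (e i)
  · rw [isStrictlyLE_iff]
    intro i hi
    exact IsZero.of_iso (isZero_biprod (isZero_biprod (K.isZero_of_isStrictlyLE a i (by omega))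
      (show IsZero (S.X i) from L.isZero_of_isStrictlyLE a (i + (-1)) (by omega))) (L.isZero_of_isStrictlyLE a i (by omega))) (e i)

end Groth.CohDerCyl
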